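import Cfsg.Agent.H841.SY.Tool
import Cfsg.Agent.H868.HeFi24
import Cfsg.Agent.S1698

/-!
# S3846: the row `Fi24'` (helper841)

`He` (for `p = 5, 7, 17`) and `Fi23` (for `p = 11, 13, 23`) are simple subgroups of index prime to `p`; `p = 29` by the
orders of 2 and 7 modulo 29.
-/

set_option autoImplicit false

namespace Cfsg.Agent.H841.SY

open Cfsg Subgroup Cfsg.Agent.H459.Rad Cfsg.Agent.H459.Iface Cfsg.Agent.H301.SY
open Cfsg.Agent.Fischer.Fi24Class (exists_fi23_hom)

theorem card_fi24' : Nat.card Spor.Fi24' = 1255205709190661721292800 := Cfsg.Agent.S1698.result.2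

/-- `He ≤ Fi24'` -/
theorem exists_he : ∃ f : Spor.He →* Spor.Fi24', Function.Injective f := by
  have h95 := Cfsg.Agent.S1695.result
  obtain ⟨ψ, hψ⟩ := Cfsg.Agent.H868.HeFi24.exists_embedding
  have hle : ∀ x, ψ x ∈ commutator Spor.Fi24 := by
    intro x
    refine Fischer.Fi24Class.range_le_commutator (Fischer.Fi24Class.perfect_of_simple h95.1 ?_) ψ ⟨x, rfl⟩
    rw [h95.2]
    intro hp
    exact absurd ((Nat.prime_dvd_prime_iff_eq Nat.prime_two hp).1 (by norm_num)) (by norm_num)
  refine ⟨ψ.codRestrict (commutator Spor.Fi24) hle, ?_⟩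
  intro a b hab
  exact hψ (congrArg Subtype.val hab)

/-- `Fi23 ≤ Fi24'` -/
theorem exists_fi23 : ∃ f : Spor.Fi23 →* Spor.Fi24', Function.Injective f := by
  have h97 := Cfsg.Agent.S1697.result
  obtain ⟨-, hst, -⟩ := SporRec.Fi24Index.index_and_suborbits
  obtain ⟨φ, hφ⟩ := exists_fi23_hom (Fischer.Fi24Spider.spider_rel hst)
  have hne : Nat.card (commutator Spor.Fi24) ≠ 1 := by
    have h98 : Nat.card (commutator Spor.Fi24) = _ := Cfsg.Agent.S1698.result.2
    rw [h98]; norm_num
  have hφ1 : Function.Injective φ := by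
    apply Fischer.Fi24Class.injective_of_simple h97.1
    refine ⟨Cfsg.Agent.SporRec.Fi23Rel.gen .a, ?_⟩
    rw [hφ]
    intro h
    apply Fischer.Fi24Class.a_ne_l hne
    have h2 : Fischer.Fi24Rep.gen .a * Fischer.Fi24Rep.gen .l = 1 := h
    rw [mul_eq_one_iff_eq_inv] at h2
    rw [show (Fischer.Fi24Rep.gen .l)⁻¹ = Fischer.Fi24Rep.gen .l from Fischer.Fi24Class.gen_inv .l] at h2
    exact h2
  have hle : ∀ x, φ x ∈ commutator Spor.Fi24 := by
    intro x
    refine Fischer.Fi24Class.range_le_commutator (Fischer.Fi24Class.perfect_of_simple h97.1 ?_) φ ⟨x, rfl⟩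
    rw [h97.2]
    intro hp
    exact absurd ((Nat.prime_dvd_prime_iff_eq Nat.prime_two hp).1 (by norm_num)) (by norm_num)
  refine ⟨φ.codRestrict (commutator Spor.Fi24) hle, ?_⟩
  intro a b hab
  exact hφ1 (congrArg Subtype.val hab)

/-- the prime divisors -/
theorem prime_cases {p : ℕ} (hp : p.Prime) (h5 : 5 ≤ p) (h : p ∣ 1255205709190661721292800) :
    p = 5 ∨ p = 7 ∨ p = 11 ∨ p = 13 ∨ p = 17 ∨ p = 23 ∨ p = 29 := by
  have e : (1255205709190661721292800 : ℕ) = 2 ^ 21 * 3 ^ 16 * 5 ^ 2 * 7 ^ 3 * 11 * 13 * 17 * 23 * 29 := by norm_num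
  rw [e] at h
  have key : ∀ q : ℕ, q.Prime → p ∣ q → p = q := fun q hq hd => (Nat.prime_dvd_prime_iff_eq hp hq).1 hd
  have keyp : ∀ q n : ℕ, q.Prime → p ∣ q ^ n → p = q := fun q n hq hd => key q hq (hp.dvd_of_dvd_pow hd)
  rcases hp.dvd_mul.1 h with h | h
  swap
  · exact Or.inr (Or.inr (Or.inr (Or.inr (Or.inr (Or.inr (key _ (by norm_num) h))))))
  rcases hp.dvd_mul.1 h with h | h
  swap
  · exact Or.inr (Or.inr (Or.inr (Or.inr (Or.inr (Or.inl (key _ (by norm_num) h))))))
  rcases hp.dvd_mul.1 h with h | h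
  swap
  · exact Or.inr (Or.inr (Or.inr (Or.inr (Or.inl (key _ (by norm_num) h)))))
  rcases hp.dvd_mul.1 h with h | h
  swap
  · exact Or.inr (Or.inr (Or.inr (Or.inl (key _ (by norm_num) h))))
  rcases hp.dvd_mul.1 h with h | h
  swap
  · exact Or.inr (Or.inr (Or.inl (key _ (by norm_num) h)))
  rcases hp.dvd_mul.1 h with h | h
  swap
  · exact Or.inr (Or.inl (keyp _ _ (by norm_num) h))
  rcases hp.dvd_mul.1 h with h | h
  swap
  · exact Or.inl (keyp _ _ (by norm_num) h)
  exfalso
  rcases hp.dvd_mul.1 h with h | h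
  · have := keyp _ _ Nat.prime_two h
    omega
  · have := keyp _ _ Nat.prime_three h
    omega

/-- `p = 29` -/
theorem m0_29 {K : Type*} [Group K] [Finite K] [Fact (Nat.Prime 29)] (hK : Nat.card K = 1255205709190661721292800)
    (hb : Blk 29 K) (hO : ThO 29 K) {x : K} (hx : orderOf x = 29) (hR : RE x) (hY : YE 29 x) : M0 x := by
  have hcyc : ∀ P : Sylow 29 K, IsCyclic (P : Subgroup K) := cyclic_of_card (by rw [hK]; norm_num)
  refine m0_num hcyc hb hO hx hR hY fun t ht _ htd => Or.inl ?_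
  intro i hi hd
  rw [hK] at hd
  have htt : t = 2 ∨ t = 7 := by
    have h28 : t ∣ 2 ^ 2 * 7 := by simpa using htd
    rcases ht.dvd_mul.1 h28 with h | h
    · exact Or.inl ((Nat.prime_dvd_prime_iff_eq ht Nat.prime_two).1 (ht.dvd_of_dvd_pow h))
    · exact Or.inr ((Nat.prime_dvd_prime_iff_eq ht (by norm_num)).1 h)
  rcases htt with rfl | rfl
  · have hi2 : i ≤ 21 := by
      by_contra hc
      have h1 : 2 ^ 22 ∣ 1255205709190661721292800 := (pow_dvd_pow 2 (by omega)).trans hd
      norm_num at h1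
    intro hm
    unfold Nat.ModEq at hm
    interval_cases i <;> revert hm <;> decide
  · have hi2 : i ≤ 3 := by
      by_contra hc
      have h1 : 7 ^ 4 ∣ 1255205709190661721292800 := (pow_dvd_pow 7 (by omega)).trans hd
      norm_num at h1
    intro hm
    unfold Nat.ModEq at hm
    interval_cases i <;> revert hm <;> decide

/-- **the row `Fi24'`** -/
theorem noE_fi24 {K : Type*} [Group K] [Finite K] [IsSimpleGroup K] (h : Cfsg.Spor.IsoFi24' K) {p : ℕ} [Fact p.Prime]
    (hp : 5 ≤ p) (hb : Blk p K) (hO : ThO p K) : NoE p K := by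
  obtain ⟨e⟩ := h
  have hfin : Finite Spor.Fi24' := Finite.of_equiv K e.toEquiv
  have hK : Nat.card K = 1255205709190661721292800 := (Nat.card_congr e.toEquiv).trans card_fi24'
  have hnp : ∀ q : ℕ, q.Prime → q = 1255205709190661721292800 → False := by
    rintro q hq rfl
    exact absurd ((Nat.prime_dvd_prime_iff_eq Nat.prime_two hq).1 (by norm_num)) (by norm_num)
  by_cases hpd : p ∣ Nat.card K
  swap
  · intro x hx _ _
    exact hpd (hx ▸ orderOf_dvd_natCard x)
  have h95 := Cfsg.Agent.S1695.result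
  have h97 := Cfsg.Agent.S1697.result
  have hHe : IsSimpleGroup Spor.He := h95.1
  have h23 : IsSimpleGroup Spor.Fi23 := h97.1
  have cHe : Nat.card Spor.He = 4030387200 := h95.2
  have c23 : Nat.card Spor.Fi23 = 4089470473293004800 := h97.2
  have fHe : Finite Spor.He := Nat.finite_of_card_ne_zero (by rw [cHe]; norm_num)
  have f23 : Finite Spor.Fi23 := Nat.finite_of_card_ne_zero (by rw [c23]; norm_num)
  have sHe : ¬ Group.IsSolvable Spor.He := not_solvable (by
    rw [cHe]
    intro hp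
    exact absurd ((Nat.prime_dvd_prime_iff_eq Nat.prime_two hp).1 (by norm_num)) (by norm_num))
  have s23 : ¬ Group.IsSolvable Spor.Fi23 := not_solvable (by
    rw [c23]
    intro hp
    exact absurd ((Nat.prime_dvd_prime_iff_eq Nat.prime_two hp).1 (by norm_num)) (by norm_num))
  have caseHe : ¬ p ∣ 311435513985024 → NoE p K := by
    intro hm
    obtain ⟨f, hf⟩ := exists_he
    exact NoE.congr e (noE_of_hom sHe f hf (m := 311435513985024) (by rw [card_fi24', cHe]) (by norm_num) hm)
  have case23 : ¬ p ∣ 306936 → NoE p K := by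
    intro hm
    obtain ⟨f, hf⟩ := exists_fi23
    exact NoE.congr e (noE_of_hom s23 f hf (m := 306936) (by rw [card_fi24', c23]) (by norm_num) hm)
  rcases prime_cases (Fact.out : p.Prime) hp (hK ▸ hpd) with rfl | rfl | rfl | rfl | rfl | rfl | rfl
  · exact caseHe (by norm_num)
  · exact caseHe (by norm_num)
  · exact case23 (by norm_num)
  · exact case23 (by norm_num)
  · exact case23 (by norm_num)
  · exact case23 (by norm_num)
  · refine NoE.of_m0 ?_ (cyclic_of_card (by rw [hK]; norm_num)) fun x hx hR hY => m0_29 hK hb hO hx hR hY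
    intro hcom
    have hcc : ∀ a b : K, a * b = b * a := fun a b => hcom.is_comm.comm a b
    let _ : CommGroup K := { (inferInstance : Group K) with mul_comm := hcc }
    exact hnp _ (IsSimpleGroup.prime_card (α := K)) hK

end Cfsg.Agent.H841.SY
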