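import Cfsg.Agent.H301.SY.Spor

/-!
# S3846: simple subgroups of index prime to `p` (helper841)
-/

set_option autoImplicit false

namespace Cfsg.Agent.H841.SY

open Cfsg Subgroup Cfsg.Agent.H459.Rad Cfsg.Agent.H459.Iface Cfsg.Agent.H301.SY

/-- a proper non-abelian simple subgroup of index prime to `p` -/
theorem noE_of_hom {Q K : Type*} [Group Q] [Finite Q] [IsSimpleGroup Q] [Group K] [Finite K] {p : ℕ} [hp : Fact p.Prime]
    (hQ : ¬ Group.IsSolvable Q) (f : Q →* K) (hf : Function.Injective f) {m : ℕ}
    (hm : Nat.card K = Nat.card Q * m) (hm1 : m ≠ 1) (hpm : ¬ p ∣ m) : NoE p K := by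
  have e : Q ≃* f.range := MonoidHom.ofInjective hf
  have hcL : Nat.card f.range = Nat.card Q := (Nat.card_congr e.toEquiv).symm
  have hidx : f.range.index = m := by
    have h1 := f.range.card_mul_index
    rw [hcL, hm] at h1
    exact Nat.eq_of_mul_eq_mul_left Nat.card_pos h1
  obtain ⟨S⟩ : Nonempty (Sylow p f.range) := inferInstance
  have hS : IsPGroup p ↥((S : Subgroup f.range).map f.range.subtype) := S.isPGroup'.map _
  have hc : ¬ p ∣ ((S : Subgroup f.range).map f.range.subtype).index := by
    rw [← relIndex_mul_index (map_subtype_le (S : Subgroup f.range)), hp.out.dvd_mul, not_or]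
    refine ⟨?_, by rw [hidx]; exact hpm⟩
    have h1 : ((S : Subgroup f.range).map f.range.subtype).relIndex f.range = (S : Subgroup f.range).index := by
      rw [relIndex, subgroupOf, comap_map_eq_self_of_injective f.range.subtype_injective]
    rw [h1]
    exact S.not_dvd_index
  let P : Sylow p K := hS.toSylow hc
  refine NoE.of_sylow (L := f.range) ?_ P ?_ ?_
  · intro h
    apply hm1
    rw [← hidx, h, index_top]
  · show (S : Subgroup f.range).map f.range.subtype ≤ f.range
    exact map_subtype_le _
  · have h1 : solvableRadical f.range = ⊥ := by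
      rw [eq_bot_iff]
      intro z hz
      have h2 := map_rad_le (f := e.symm.toMonoidHom) e.symm.surjective hz
      rw [rad_eq_bot_of_simple hQ, mem_bot] at h2
      rw [mem_bot]
      exact e.symm.injective (h2.trans (map_one e.symm).symm)
    unfold radIn
    rw [h1, Subgroup.map_bot, card_bot]
    intro h
    exact hp.out.one_lt.ne' (Nat.dvd_one.1 h)

/-- a non-abelian simple group is not solvable -/
theorem not_solvable {Q : Type*} [Group Q] [Finite Q] [IsSimpleGroup Q] (hp : ¬ (Nat.card Q).Prime) : ¬ Group.IsSolvable Q := by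
  intro h
  have hc : Nontrivial Q := inferInstance
  by_cases hcom : ∀ a b : Q, a * b = b * a
  · apply hp
    let _ : CommGroup Q := { (inferInstance : Group Q) with mul_comm := hcom }
    exact IsSimpleGroup.prime_card
  · exact hcom fun a b => IsSimpleGroup.comm_iff_isSolvable.2 h a b

end Cfsg.Agent.H841.SY
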